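import Mathlib

set_option autoImplicit false

/-!
# Definitions for S4472 (helper25): the cyclotomic field `ℚ(exp(2πi/r))` inside `ℂ`
-/

namespace Cfsg.Agent.Helper25.PSolvLin

/-- the field `ℚ(exp(2πi/r))` -/
noncomputable abbrev cycField (r : ℕ) : IntermediateField ℚ ℂ :=
  IntermediateField.adjoin ℚ ({Complex.exp (2 * Real.pi * Complex.I / (r : ℂ))} : Set ℂ)

end Cfsg.Agent.Helper25.PSolvLin
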