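import Mathlib
import Cfsg.Agent.Helper82.PRat.Rat
import Cfsg.Agent.Helper82.FV.Field

set_option autoImplicit false

/-!
# Rationality from invariance under power maps (helper25, for S4472)

`mem_adjoin_of_powFix`: if `x ^ n = 1` for all `x`, `m ∣ n`, and the character `χ` satisfies
`χ (x ^ k) = χ x` for every `k` prime to `n` with `k ≡ 1 [MOD m]`, then all values of `χ` lie in
`ℚ(exp (2πi/m))`.  (Variant of `Helper82.PRat.isPRat_of_powFix` without a generator hypothesis.)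
-/

namespace Cfsg.Agent.Helper25.PSolvLin

open Cfsg IntermediateField Cfsg.Agent.Helper82

theorem mem_adjoin_of_powFix {X : Type*} [Group X] [Finite X] (n m : ℕ)
    (hn0 : 0 < n) (hmn : m ∣ n) (hn : ∀ x : X, x ^ n = 1)
    {χ : X → ℂ} (hχ : IsCharacter X χ)
    (hfix : ∀ k : ℕ, k.Coprime n → k ≡ 1 [MOD m] → ∀ x : X, χ (x ^ k) = χ x) (x : X) :
    χ x ∈ IntermediateField.adjoin ℚ
      ({Complex.exp (2 * Real.pi * Complex.I / (m : ℂ))} : Set ℂ) := by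
  classical
  have hNZ : NeZero n := ⟨hn0.ne'⟩
  obtain ⟨c, hc⟩ := hmn
  have hc0 : c ≠ 0 := by
    rintro rfl; rw [mul_zero] at hc; omega
  have hm0 : m ≠ 0 := by
    rintro rfl; rw [zero_mul] at hc; omega
  have hnn : c * m = n := by rw [hc, mul_comm]
  set ω : ℂ := Complex.exp (2 * Real.pi * Complex.I / n) with hωdef
  have hω : IsPrimitiveRoot ω n := Complex.isPrimitiveRoot_exp n hn0.ne'
  have hcyc : IsCyclotomicExtension {n} ℚ ℚ⟮ω⟯ := FV.cyclo_inst hω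
  have hfd : FiniteDimensional ℚ ℚ⟮ω⟯ := IsCyclotomicExtension.finiteDimensional {n} ℚ ℚ⟮ω⟯
  have hgal : IsGalois ℚ ℚ⟮ω⟯ := IsCyclotomicExtension.isGalois {n} ℚ ℚ⟮ω⟯
  -- `exp (2πi/m) = ω ^ c`
  have hω' : Complex.exp (2 * Real.pi * Complex.I / (m : ℂ)) = ω ^ c := by
    rw [hωdef, ← Complex.exp_nat_mul]
    congr 1
    have hnC : (n : ℂ) = (c : ℂ) * (m : ℂ) := by rw [← hnn]; push_cast; ring
    have h1 : (m : ℂ) ≠ 0 := by exact_mod_cast hm0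
    have h2 : (c : ℂ) ≠ 0 := by exact_mod_cast hc0
    rw [hnC]
    field_simp
  rw [hω']
  -- the element `χ x` of `ℚ(ω)`
  obtain ⟨σ₁, hσ₁⟩ := FV.exists_aut_pow hω 1 (Nat.coprime_one_left n)
  have hmem : χ x ∈ ℚ⟮ω⟯ := (FV.aut_char hω σ₁ 1 hσ₁ hχ x (hn x)).1
  let e : ℚ⟮ω⟯ := ⟨χ x, hmem⟩
  let wE : ℚ⟮ω⟯ := (AdjoinSimple.gen ℚ ω) ^ c
  have hwE : (wE : ℂ) = ω ^ c := by
    show ((AdjoinSimple.gen ℚ ω ^ c : ℚ⟮ω⟯) : ℂ) = ω ^ c
    simp
  have hwEn : (wE : ℂ) ^ n = 1 := by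
    rw [hwE, ← pow_mul, mul_comm, pow_mul, hω.pow_eq_one, one_pow]
  have key : e ∈ IntermediateField.adjoin ℚ ({wE} : Set ℚ⟮ω⟯) := by
    apply FV.mem_of_forall_fixed
    intro σ hσfix
    obtain ⟨j, hj, hσ⟩ := FV.aut_pow hω σ
    have h1 : σ wE = wE := hσfix wE (subset_adjoin ℚ _ (Set.mem_singleton _))
    have h2 : ((σ wE : ℚ⟮ω⟯) : ℂ) = (wE : ℂ) ^ j := hσ wE hwEn
    rw [h1, hwE] at h2
    -- `ω ^ c = ω ^ (c * j)` gives `j ≡ 1 [MOD m]`
    have h3 : c * 1 ≡ c * j [MOD n] := by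
      have hfin : IsOfFinOrder ω := isOfFinOrder_iff_pow_eq_one.2 ⟨n, hn0, hω.pow_eq_one⟩
      have := hfin.pow_eq_pow_iff_modEq (n := c * 1) (m := c * j)
      rw [← hω.eq_orderOf] at this
      apply this.1
      rw [mul_one, pow_mul]
      exact h2
    have h4 : 1 ≡ j [MOD m] := by
      rw [← hnn] at h3
      exact Nat.ModEq.mul_left_cancel' hc0 h3
    have h5 := (FV.aut_char hω σ j hσ hχ x (hn x)).2 e rfl
    apply Subtype.ext
    rw [h5]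
    exact hfix j hj h4.symm x
  -- back to `ℂ`
  let v : ↥ℚ⟮ω⟯ →ₐ[ℚ] ℂ := (algebraMap ↥ℚ⟮ω⟯ ℂ).toRatAlgHom
  have hmap : (IntermediateField.adjoin ℚ ({wE} : Set ℚ⟮ω⟯)).map v =
      IntermediateField.adjoin ℚ ({ω ^ c} : Set ℂ) := by
    rw [adjoin_map]
    congr 1
    rw [Set.image_singleton]
    congr 1
  rw [← hmap]
  exact (IntermediateField.mem_map _).2 ⟨e, key, rfl⟩

end Cfsg.Agent.Helper25.PSolvLin
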