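import Mathlib
import Cfsg.Prelude.Def_Characters
import Cfsg.Agent.Helper25.PSolvLin.Defs

set_option autoImplicit false

namespace Cfsg.Agent.Helper25.PSolvLin

open Cfsg

universe u

theorem extendByZero_of_mem {X : Type u} [Group X] (T : Subgroup X) (η : T → ℂ) (x : X)
    (hx : x ∈ T) : extendByZero T η x = η ⟨x, hx⟩ := by
  unfold extendByZero
  have : x = ((⟨x, hx⟩ : T) : X) := rfl
  conv_lhs => rw [this]
  exact Subtype.val_injective.extend_apply η 0 ⟨x, hx⟩

theorem extendByZero_of_not_mem {X : Type u} [Group X] (T : Subgroup X) (η : T → ℂ) (x : X)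
    (hx : x ∉ T) : extendByZero T η x = 0 := by
  unfold extendByZero
  rw [Function.extend_apply']
  · rfl
  · rintro ⟨t, rfl⟩
    exact hx t.2

/-- **(IN1)** induction preserves the field of values. -/
theorem indFun_mem_field {X : Type u} [Group X] [Fintype X] (T : Subgroup X)
    (F : IntermediateField ℚ ℂ) (η : T → ℂ) (hη : ∀ t : T, η t ∈ F) (x : X) :
    indFun T η x ∈ F := by
  unfold indFun
  apply mul_mem
  · apply inv_mem
    exact natCast_mem F _
  · apply sum_mem
    intro y _
    by_cases h : y⁻¹ * x * y ∈ T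
    · rw [extendByZero_of_mem T η _ h]; exact hη _
    · rw [extendByZero_of_not_mem T η _ h]; exact zero_mem _

/-- **(IN2)** on a normal subgroup `H ≤ T`, `indFun T η` only depends on `η` restricted to `H`. -/
theorem indFun_congr_on_normal {X : Type u} [Group X] [Fintype X] (H T : Subgroup X) [hH : H.Normal]
    (hHT : H ≤ T) (η η' : T → ℂ) (heq : ∀ t : T, (t : X) ∈ H → η t = η' t) (h : X) (hh : h ∈ H) :
    indFun T η h = indFun T η' h := by
  unfold indFun
  congr 1
  refine Finset.sum_congr rfl (fun y _ => ?_)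
  have h1 : y⁻¹ * h * y ∈ H := by
    have := hH.conj_mem h hh y⁻¹
    simpa using this
  rw [extendByZero_of_mem T η _ (hHT h1), extendByZero_of_mem T η' _ (hHT h1)]
  exact heq _ h1

end Cfsg.Agent.Helper25.PSolvLin
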