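import Mathlib
import Cfsg.Prelude.Def_Local
import Cfsg.Prelude.Def_Blocks
import Cfsg.Agent.Helper74.CharBasic
import Cfsg.Agent.Helper80.CharLevel
import Cfsg.Agent.Helper25.PSolvLin.Defs
import Cfsg.Agent.Helper10.S4472CE
import Cfsg.Agent.Helper79.S4472CL
import Cfsg.Agent.Helper68.S4472SK
import Cfsg.Agent.Helper75.S4472GT3

set_option autoImplicit false
set_option linter.style.haveILetI false

/-!
# S4472 (helper25): `p`-solvable linear groups, `v_p |G : O_p(G)| ≤` Schur's bound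

`G` `p`-solvable with a faithful character of degree `n`  ⟹  `v_p |G : O_p(G)| ≤ B(n)`.

Find subgroups `H ⊴ X ≤ G`, `H` a `p'`-group, `X/H` a `p`-group, such that every normal subgroup
`N` of `X` with `N ∩ H = 1` has `v_p|G:O_p(G)| + v_p|N| ≤ v_p|X|` (piece GT: helper60, helper76, helper75).
Replace `χ_X` by a character `ψ` of `X` with the same restriction to `H` and with values in `ℚ(ζ_{|H|})`
(pieces CE: helper10, CL: helper79): then `ψ` is `p`-rational and `ker ψ ∩ H = 1`; Schur's bound S4488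
(helper79) for `X / ker ψ` (piece SK: helper68) finishes.
-/

namespace Cfsg.Agent.Helper25.PSolvLin

open Cfsg

universe u

/-- (CL) `H ⊴ X` a normal Hall subgroup, `ξ ∈ Irr(X)`: there is a character `ψ` of `X` with
`ψ_H = ξ_H` and all values in `ℚ(ζ_{|H|})`. -/
theorem exists_rat_of_irr : ∀ (n : ℕ) (X : Type u) [Group X] [Finite X], Nat.card X = n →
    ∀ (H : Subgroup X) [H.Normal], Nat.Coprime H.index (Nat.card H) →
    ∀ ξ : X → ℂ, IsIrrCharacter X ξ →
    ∃ ψ : X → ℂ, IsCharacter X ψ ∧ (∀ h : H, ψ h = ξ h) ∧ ∀ x : X, ψ x ∈ cycField (Nat.card H) :=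
  Cfsg.Agent.Helper79.S4472.exists_rat_of_irr_of
    (fun X _ _ H _ hcop θ hθ hinv => Cfsg.Agent.Helper10.S4472CE.exists_rat_ext H hcop hθ hinv)

/-- (CH) the same for arbitrary characters. -/
theorem exists_rat_of_char {X : Type u} [Group X] [Finite X] (H : Subgroup X) [H.Normal]
    (hcop : Nat.Coprime H.index (Nat.card H)) {χ : X → ℂ} (hχ : IsCharacter X χ) :
    ∃ ψ : X → ℂ, IsCharacter X ψ ∧ (∀ h : H, ψ h = χ h) ∧ ∀ x : X, ψ x ∈ cycField (Nat.card H) := by
  have hmem := Helper74.isCharacter_mem_irrSpanNat hχ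
  induction hmem using AddSubmonoid.closure_induction with
  | mem ξ hξ =>
    exact exists_rat_of_irr (Nat.card X) X rfl H hcop ξ hξ
  | zero =>
    exact ⟨0, Helper74.isCharacter_zero, fun h => rfl, fun x => zero_mem _⟩
  | add a b ha hb iha ihb =>
    obtain ⟨ψa, h1, h2, h3⟩ := iha (Helper74.isCharacter_of_mem_irrSpanNat ha)
    obtain ⟨ψb, h4, h5, h6⟩ := ihb (Helper74.isCharacter_of_mem_irrSpanNat hb)
    refine ⟨ψa + ψb, Helper74.isCharacter_add h1 h4, fun h => ?_, fun x => ?_⟩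
    · show ψa h + ψb h = a h + b h
      rw [h2, h5]
    · exact add_mem (h3 x) (h6 x)

/-- **S4472.** -/
theorem main {G : Type u} [Group G] [Finite G] (χ : G → ℂ) (hχ : IsCharacter G χ)
    (hfaith : ∀ g : G, χ g = χ 1 → g = 1) (n : ℕ) (hn : charDegree χ = n) (p : ℕ) (hp : p.Prime)
    (hsolv : IsPSolvable p G) :
    ((pCore p G).index).factorization p ≤ ∑ i ∈ Finset.range (n + 1), n / ((p - 1) * p ^ i) := by
  haveI : Fact p.Prime := ⟨hp⟩
  obtain ⟨X, H, hHX, hXN, hHp, ⟨c, hc⟩, hbound⟩ :=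
    Cfsg.Agent.Helper75.S4472GT3.exists_hall_pair p hsolv
  -- the normal Hall subgroup `H' = H ∩ X` of `X`
  set H' : Subgroup ↥X := H.subgroupOf X with hH'
  haveI hH'n : H'.Normal := (Subgroup.normal_subgroupOf_iff_le_normalizer hHX).mpr hXN
  have hcardH' : Nat.card H' = Nat.card H :=
    Nat.card_congr (Subgroup.subgroupOfEquivOfLe hHX).toEquiv
  have hidx : H'.index = p ^ c := hc
  have hcop : Nat.Coprime H'.index (Nat.card H') := by
    rw [hidx, hcardH']
    exact Nat.Coprime.pow_left c hHp.symm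
  -- the restriction of `χ` to `X` and its rational replacement `ψ`
  have hχX : IsCharacter ↥X (fun x : ↥X => χ x) := Helper74.isCharacter_restrict X hχ
  obtain ⟨ψ, hψ, hψH, hψrat⟩ := exists_rat_of_char H' hcop hχX
  have h1H' : (1 : ↥X) ∈ H' := one_mem _
  have hψ1 : ψ 1 = χ 1 := by
    have := hψH ⟨1, h1H'⟩
    simpa using this
  have hdeg : charDegree ψ = n := by
    rw [← hn]; unfold charDegree; rw [hψ1]
  -- the kernel of `ψ`
  set N' : Subgroup ↥X := Helper80.kerChar ψ hψ with hN'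
  have hN'mem : ∀ x : ↥X, x ∈ N' ↔ ψ x = ψ 1 := fun x => Helper80.mem_kerChar hψ x
  set N : Subgroup G := N'.map X.subtype with hN
  have hNX : N ≤ X := by
    rintro _ ⟨x, -, rfl⟩
    exact x.2
  have hXNN : X ≤ Subgroup.normalizer (N : Set G) := by
    intro x hx
    rw [Subgroup.mem_normalizer_iff]
    intro g
    constructor
    · rintro ⟨y, hy, rfl⟩
      refine ⟨⟨x, hx⟩ * y * ⟨x, hx⟩⁻¹, ?_, rfl⟩
      exact (Helper80.kerChar_normal ψ hψ).conj_mem y hy ⟨x, hx⟩
    · rintro ⟨y, hy, hyg⟩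
      refine ⟨⟨x, hx⟩⁻¹ * y * ⟨x, hx⟩, ?_, ?_⟩
      · have := (Helper80.kerChar_normal ψ hψ).conj_mem y hy ⟨x, hx⟩⁻¹
        simpa using this
      · have : (y : G) = x * g * x⁻¹ := hyg
        simp only [Subgroup.subtype_apply, Subgroup.coe_mul, Subgroup.coe_inv, this]
        group
  have hNH : N ⊓ H = ⊥ := by
    rw [eq_bot_iff]
    rintro g ⟨⟨x, hx, rfl⟩, hgH⟩
    rw [Subgroup.mem_bot]
    have hxH' : x ∈ H' := Subgroup.mem_subgroupOf.mpr hgH
    have h1 : ψ x = χ (x : G) := hψH ⟨x, hxH'⟩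
    have h2 : ψ x = ψ 1 := (hN'mem x).mp hx
    apply hfaith
    show χ (x : G) = χ 1
    rw [← h1, h2, hψ1]
  have hb := hbound N hNX hXNN hNH
  have hcardN : Nat.card N = Nat.card N' :=
    Nat.card_congr (Subgroup.equivMapOfInjective N' X.subtype X.subtype_injective).symm.toEquiv
  -- Schur's bound
  have hr0 : 0 < Nat.card H' := Nat.card_pos
  have hpr : ¬ p ∣ Nat.card H' := by
    rw [hcardH']
    intro h
    have := Nat.Coprime.eq_one_of_dvd hHp.symm h
    exact hp.one_lt.ne' this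
  have hs := Cfsg.Agent.Helper68.PSolvLin.schur_bound_ker p hp ψ hψ (Nat.card H') hr0 hpr hψrat n
    hdeg N' hN'mem
  rw [hcardN] at hb
  omega

end Cfsg.Agent.Helper25.PSolvLin
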